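import Groth.Prelude.Def_Curves
import Mathlib.RingTheory.Nullstellensatz
import Mathlib.RingTheory.Ideal.KrullsHeightTheorem
import Mathlib.RingTheory.MvPolynomial.Homogeneous
import Mathlib.FieldTheory.RatFunc.AsPolynomial
import Mathlib.RingTheory.AlgebraicIndependent.TranscendenceBasis
import Mathlib.FieldTheory.IntermediateField.Adjoin.Basic
import Mathlib.RingTheory.Localization.Integer
import Mathlib.Algebra.Polynomial.BigOperators

/-! `C_i` fields: Tsen–Lang. -/

universe u v w

namespace Groth.Agent.TsenLib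

open MvPolynomial

section coeffMap

variable {K : Type*} [Field K] {R : Type*} [CommRing R] [Algebra K R] {σ : Type*}

/-- Apply a linear functional to all coefficients. -/
noncomputable def coeffMap (φ : R →ₗ[K] K) (P : MvPolynomial σ R) : MvPolynomial σ K :=
  ∑ m ∈ P.support, monomial m (φ (P.coeff m))

theorem coeffMap_isHomogeneous (φ : R →ₗ[K] K) {P : MvPolynomial σ R} {d : ℕ}
    (hP : P.IsHomogeneous d) : (coeffMap φ P).IsHomogeneous d :=
  IsHomogeneous.sum _ _ _ fun m hm => isHomogeneous_monomial _ (by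
    have := hP (mem_support_iff.1 hm)
    rw [Finsupp.degree_eq_weight_one]
    exact this)

theorem eval_coeffMap (φ : R →ₗ[K] K) (P : MvPolynomial σ R) (y : σ → K) :
    eval y (coeffMap φ P) = φ (eval (fun s => algebraMap K R (y s)) P) := by
  have h : eval (fun s => algebraMap K R (y s)) P =
      ∑ m ∈ P.support, P.coeff m * algebraMap K R (eval y (monomial m 1)) := by
    conv_lhs => rw [P.as_sum, map_sum]
    refine Finset.sum_congr rfl fun m _ => ?_
    rw [eval_monomial, eval_monomial, one_mul, map_finsuppProd]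
    simp only [map_pow]
  rw [h, coeffMap, map_sum, map_sum]
  refine Finset.sum_congr rfl fun m _ => ?_
  rw [eval_monomial, eval_monomial, one_mul, mul_comm (P.coeff m), ← Algebra.smul_def, map_smul,
    smul_eq_mul, mul_comm]

end coeffMap

/-- Substitute generic linear combinations `∑ⱼ bⱼ X_{vj}` for the variables. -/
noncomputable def genSubst {R : Type*} [CommRing R] {σ : Type*} {τ : Type*} [Fintype τ] (b : τ → R)
    (f : MvPolynomial σ R) : MvPolynomial (σ × τ) R :=
  aeval (fun v => ∑ j, C (b j) * X (v, j)) f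

theorem genSubst_isHomogeneous {R : Type*} [CommRing R] {σ : Type*} {τ : Type*} [Fintype τ]
    (b : τ → R) {f : MvPolynomial σ R} {d : ℕ} (hf : f.IsHomogeneous d) :
    (genSubst b f).IsHomogeneous d := by
  have := hf.aeval (fun v => ∑ j, C (b j) * X (v, j)) (n := 1)
    (fun v => IsHomogeneous.sum _ _ _ fun j _ => isHomogeneous_C_mul_X (b j) (v, j))
  simpa [genSubst] using this

theorem eval_genSubst {R : Type*} [CommRing R] {σ : Type*} {τ : Type*} [Fintype τ] (b : τ → R)
    (f : MvPolynomial σ R) (z : σ × τ → R) :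
    eval z (genSubst b f) = eval (fun v => ∑ j, b j * z (v, j)) f := by
  simp only [genSubst, aeval_def, algebraMap_eq]
  rw [eval₂_comp_left (eval z)]
  congr 1
  · ext r; simp
  · funext v; simp

/-- `IsCi` for arbitrary finite index types. -/
theorem isCi_exists {K : Type*} [Field K] {i : ℕ} (h : Curves.IsCi K i) {σ ι : Type*} [Fintype σ]
    [Fintype ι] (f : ι → MvPolynomial σ K) (d : ι → ℕ) (hf : ∀ ρ, (f ρ).IsHomogeneous (d ρ))
    (hd : ∀ ρ, 0 < d ρ) (hlt : ∑ ρ, d ρ ^ i < Fintype.card σ) :
    ∃ a : σ → K, a ≠ 0 ∧ ∀ ρ, eval a (f ρ) = 0 := by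
  classical
  let e := Fintype.equivFin σ
  let e' := Fintype.equivFin ι
  obtain ⟨a, ha, ha'⟩ := h (Fintype.card ι) (Fintype.card σ) (fun ρ => rename e (f (e'.symm ρ)))
    (fun ρ => d (e'.symm ρ)) (fun ρ => (hf _).rename_isHomogeneous) (fun ρ => hd _)
    (by rwa [e'.symm.sum_comp (fun ρ => d ρ ^ i)])
  refine ⟨a ∘ e, fun h0 => ha (funext fun x => ?_), fun ρ => ?_⟩
  · simpa using congrFun h0 (e.symm x)
  · have := ha' (e' ρ)
    simpa [eval_rename] using this

theorem isCi_mono {K : Type*} [Field K] {i j : ℕ} (hij : i ≤ j) (h : Curves.IsCi K i) :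
    Curves.IsCi K j := fun r n f d hf hd hlt =>
  h r n f d hf hd (lt_of_le_of_lt (Finset.sum_le_sum fun ρ _ => Nat.pow_le_pow_right (hd ρ) hij) hlt)

theorem isCi_of_ringEquiv {K : Type*} [Field K] {L : Type*} [Field L] (e : K ≃+* L) {i : ℕ}
    (h : Curves.IsCi K i) : Curves.IsCi L i := by
  intro r n f d hf hd hlt
  obtain ⟨a, ha, ha'⟩ := h r n (fun ρ => map e.symm.toRingHom (f ρ)) d
    (fun ρ => (hf ρ).map _) hd hlt
  refine ⟨fun v => e (a v), fun h0 => ha (funext fun v => ?_), fun ρ => ?_⟩
  · exact e.injective (by simpa using congrFun h0 v)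
  · have := congrArg e (ha' ρ)
    rw [map_zero, eval_map] at this
    rw [← this]
    change _ = e.toRingHom (eval₂ e.symm.toRingHom a (f ρ))
    rw [eval₂_comp_left e.toRingHom]
    have hid : e.toRingHom.comp e.symm.toRingHom = RingHom.id L := RingHom.ext fun x => e.apply_symm_apply x
    rw [hid]
    rfl

theorem height_ker_eval_zero {k : Type*} [Field k] (n : ℕ) :
    (n : ℕ∞) ≤ (RingHom.ker (eval (fun _ : Fin n => (0 : k)))).height := by
  classical
  let φ : ℕ → (MvPolynomial (Fin n) k →ₐ[k] MvPolynomial (Fin n) k) := fun j =>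
    aeval (fun v : Fin n => if (v : ℕ) < j then 0 else X v)
  let p : ℕ → Ideal (MvPolynomial (Fin n) k) := fun j => RingHom.ker (φ j)
  have hcomp : ∀ i j, i ≤ j → ∀ x, φ i x = 0 → φ j x = 0 := by
    intro i j hij x hx
    have : (φ j).comp (φ i) = φ j := by
      apply algHom_ext
      intro v
      simp only [φ, AlgHom.comp_apply, aeval_X]
      split_ifs with h1 h2 <;> simp_all <;> omega
    rw [← this, AlgHom.comp_apply, hx, map_zero]
  have hp : ∀ j, (p j).IsPrime := fun j => RingHom.ker_isPrime _
  have key : ∀ j, j ≤ n → (j : ℕ∞) ≤ (p j).height := by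
    intro j
    induction j with
    | zero => intro _; simp
    | succ j ih =>
      intro hj
      haveI := hp j
      haveI := hp (j + 1)
      have hlt : p j < p (j + 1) := by
        refine lt_of_le_of_ne (fun x hx => hcomp j (j + 1) (Nat.le_succ j) x hx) fun he => ?_
        have h1 : (X ⟨j, hj⟩ : MvPolynomial (Fin n) k) ∈ p (j + 1) := by simp [p, φ]
        rw [← he] at h1
        simp [p, φ] at h1
      push_cast
      exact le_trans (add_le_add (ih (by omega)) le_rfl) (Ideal.height_add_one_le_of_lt_of_isPrime hlt)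
  have hn : p n ≤ RingHom.ker (eval (fun _ : Fin n => (0 : k))) := by
    intro x hx
    have hc : (aeval (fun _ : Fin n => (0 : k))).comp (φ n) = aeval (fun _ : Fin n => (0 : k)) := by
      apply algHom_ext
      intro v
      simp [φ, v.isLt]
    have h2 : aeval (fun _ : Fin n => (0 : k)) x = 0 := by
      rw [← hc, AlgHom.comp_apply, show φ n x = 0 from hx, map_zero]
    simpa [RingHom.mem_ker, ← aeval_eq_eval] using h2
  exact (key n le_rfl).trans (Ideal.height_mono hn)

/-- An algebraically closed field is `C_0`. -/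
theorem isCi_zero {k : Type*} [Field k] [IsAlgClosed k] : Curves.IsCi k 0 := by
  classical
  intro r n f d hf hd hlt
  simp only [pow_zero, Finset.sum_const, Finset.card_fin, smul_eq_mul, mul_one] at hlt
  by_contra hno
  push Not at hno
  set I := Ideal.span (Set.range f) with hI
  set m0 := RingHom.ker (eval (fun _ : Fin n => (0 : k))) with hm0
  haveI : m0.IsPrime := RingHom.ker_isPrime _
  have hIm : I ≤ m0 := by
    rw [hI, Ideal.span_le]
    rintro _ ⟨ρ, rfl⟩
    simp only [SetLike.mem_coe, hm0, RingHom.mem_ker, eval_zero', constantCoeff_eq]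
    exact (hf ρ).coeff_eq_zero (fun h => (hd ρ).ne' (by simpa using h.symm))
  have hzero : ∀ a ∈ zeroLocus k I, a = 0 := by
    intro a ha
    by_contra h0
    obtain ⟨ρ, hρ⟩ := hno a h0
    exact hρ (by simpa [← aeval_eq_eval] using ha (f ρ) (Ideal.subset_span ⟨ρ, rfl⟩))
  have hmin : m0 ∈ I.minimalPrimes := by
    refine ⟨⟨inferInstance, hIm⟩, fun q hq _ => ?_⟩
    refine le_trans ?_ (hq.1.radical_le_iff.2 hq.2)
    intro x hx
    rw [← vanishingIdeal_zeroLocus_eq_radical (K := k)]
    intro a ha
    rw [hzero a ha]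
    simpa [hm0, ← aeval_eq_eval] using hx
  have h1 : m0.height ≤ ((Finset.univ.image f).card : ℕ∞) :=
    Ideal.height_le_card_of_mem_minimalPrimes_span_finset (by simpa [hI] using hmin)
  have h2 := le_trans (height_ker_eval_zero (k := k) n) h1
  have h3 : (Finset.univ.image f).card ≤ r := Finset.card_image_le.trans (by simp)
  have : n ≤ r := by
    have := le_trans h2 (Nat.cast_le.2 h3)
    exact_mod_cast this
  omega

/-- `C_i` ascends to finite extensions. -/
theorem isCi_of_finite {K : Type*} [Field K] {L : Type*} [Field L] [Algebra K L]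
    [FiniteDimensional K L] {i : ℕ} (h : Curves.IsCi K i) : Curves.IsCi L i := by
  classical
  intro r n f d hf hd hlt
  let b := Module.finBasis K L
  let g : Fin r × Fin (Module.finrank K L) → MvPolynomial (Fin n × Fin (Module.finrank K L)) K :=
    fun q => coeffMap (b.coord q.2) (genSubst (fun j => b j) (f q.1))
  have hpos : 0 < Module.finrank K L := Module.finrank_pos
  obtain ⟨y, hy, hy'⟩ := isCi_exists h g (fun q => d q.1)
    (fun q => coeffMap_isHomogeneous _ (genSubst_isHomogeneous _ (hf q.1))) (fun q => hd _)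
    (by
      rw [Fintype.sum_prod_type, Fintype.card_prod, Fintype.card_fin, Fintype.card_fin]
      simp only [Finset.sum_const, Finset.card_fin, smul_eq_mul, ← Finset.mul_sum]
      rw [Nat.mul_comm n]
      exact Nat.mul_lt_mul_of_pos_left hlt hpos)
  refine ⟨fun v => ∑ j, y (v, j) • b j, fun h0 => hy (funext fun q => ?_), fun ρ => ?_⟩
  · exact Fintype.linearIndependent_iff.1 b.linearIndependent _ (congrFun h0 q.1) q.2
  · apply b.ext_elem
    intro l
    have := hy' (ρ, l)
    simp only [g, eval_coeffMap, eval_genSubst, Module.Basis.coord_apply] at this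
    rw [map_zero, Finsupp.coe_zero, Pi.zero_apply]
    simpa [Algebra.smul_def, mul_comm] using this

/-- `C_i` ascends to algebraic extensions. -/
theorem isCi_of_isAlgebraic {K : Type*} [Field K] {L : Type*} [Field L] [Algebra K L]
    [Algebra.IsAlgebraic K L] {i : ℕ} (h : Curves.IsCi K i) : Curves.IsCi L i := by
  classical
  intro r n f d hf hd hlt
  let s : Set L := ⋃ ρ, ((f ρ).coeffs : Set L)
  have hs : s.Finite := Set.finite_iUnion fun ρ => (f ρ).coeffs.finite_toSet
  let F := IntermediateField.adjoin K s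
  haveI : Finite s := hs.to_subtype
  haveI : FiniteDimensional K F := IntermediateField.finiteDimensional_adjoin fun x _ => Algebra.IsIntegral.isIntegral x
  have hr : ∀ ρ, ∃ g : MvPolynomial (Fin n) F, map (algebraMap F L) g = f ρ := fun ρ =>
    MvPolynomial.mem_range_map_iff_coeffs_subset.2 (fun c hc =>
      ⟨⟨c, IntermediateField.subset_adjoin K s (Set.mem_iUnion.2 ⟨ρ, hc⟩)⟩, rfl⟩)
  choose g hg using hr
  obtain ⟨a, ha, ha'⟩ := isCi_of_finite (L := F) h r n g d (fun ρ => by
    have := hf ρ
    rw [← hg ρ] at this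
    exact this.of_map (algebraMap F L).injective) hd hlt
  refine ⟨fun v => (a v : L), fun h0 => ha (funext fun v => Subtype.ext (congrFun h0 v)), fun ρ => ?_⟩
  rw [← hg ρ, eval_map]
  have := congrArg (algebraMap F L) (ha' ρ)
  rw [map_zero] at this
  rw [← this, ← eval₂_id, eval₂_comp_left (algebraMap F L), RingHom.comp_id]
  rfl

theorem natDegree_eval_le {K : Type*} [Field K] {σ : Type*} {f : MvPolynomial σ (Polynomial K)}
    {d N s : ℕ} (hf : f.IsHomogeneous d) (hs : ∀ m, (f.coeff m).natDegree ≤ s) (x : σ → Polynomial K)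
    (hx : ∀ v, (x v).natDegree ≤ N) : (eval x f).natDegree ≤ s + d * N := by
  rw [eval_eq]
  refine Polynomial.natDegree_sum_le_of_forall_le _ _ fun m hm => ?_
  refine Polynomial.natDegree_mul_le.trans (add_le_add (hs m) ?_)
  refine (Polynomial.natDegree_prod_le _ _).trans ?_
  have hdeg : ∑ v ∈ m.support, m v = d := by
    have := hf (mem_support_iff.1 hm)
    rw [← this, Finsupp.weight_apply, Finsupp.sum]
    exact Finset.sum_congr rfl fun v _ => by simp
  rw [← hdeg, Finset.sum_mul]
  exact Finset.sum_le_sum fun v _ => Polynomial.natDegree_pow_le.trans (Nat.mul_le_mul_left _ (hx v))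

/-- Tsen–Lang step. -/
theorem isCi_succ_ratFunc {K : Type*} [Field K] {i : ℕ} (h : Curves.IsCi K i) :
    Curves.IsCi (RatFunc K) (i + 1) := by
  classical
  intro r n f d hf hd hlt
  obtain ⟨b, hb⟩ := IsLocalization.exist_integer_multiples_of_finite (nonZeroDivisors (Polynomial K))
    (fun q : (Σ ρ : Fin r, (f ρ).support) => (f q.1).coeff q.2.1)
  choose c hc using hb
  let F : Fin r → MvPolynomial (Fin n) (Polynomial K) := fun ρ =>
    ∑ m : (f ρ).support, monomial m.1 (c ⟨ρ, m⟩)
  have hFhom : ∀ ρ, (F ρ).IsHomogeneous (d ρ) := fun ρ =>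
    IsHomogeneous.sum _ _ _ fun m _ => isHomogeneous_monomial _ (by
      rw [Finsupp.degree_eq_weight_one]; exact hf ρ (mem_support_iff.1 m.2))
  have hFmap : ∀ ρ, map (algebraMap (Polynomial K) (RatFunc K)) (F ρ) =
      C (algebraMap (Polynomial K) (RatFunc K) b) * f ρ := by
    intro ρ
    conv_rhs => rw [(f ρ).as_sum, Finset.mul_sum, ← Finset.sum_coe_sort]
    simp only [F, map_sum, map_monomial, C_mul_monomial]
    refine Finset.sum_congr rfl fun m _ => ?_
    rw [hc ⟨ρ, m⟩, Algebra.smul_def]
  let s := Finset.univ.sup fun ρ => (F ρ).support.sup fun m => ((F ρ).coeff m).natDegree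
  have hs : ∀ ρ m, ((F ρ).coeff m).natDegree ≤ s := fun ρ m => by
    by_cases hm : m ∈ (F ρ).support
    · exact le_trans (Finset.le_sup (f := fun m => ((F ρ).coeff m).natDegree) hm)
        (Finset.le_sup (f := fun ρ => (F ρ).support.sup fun m => ((F ρ).coeff m).natDegree) (Finset.mem_univ ρ))
    · simp [notMem_support_iff.1 hm]
  let N := ∑ ρ, (s + 1) * d ρ ^ i
  let g : (Σ ρ : Fin r, Fin (d ρ * N + s + 1)) → MvPolynomial (Fin n × Fin (N + 1)) K :=
    fun q => coeffMap (Polynomial.lcoeff K q.2) (genSubst (fun j => Polynomial.X ^ (j : ℕ)) (F q.1))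
  obtain ⟨y, hy, hy'⟩ := isCi_exists h g (fun q => d q.1)
    (fun q => coeffMap_isHomogeneous _ (genSubst_isHomogeneous _ (hFhom q.1))) (fun q => hd _)
    (by
      rw [Fintype.sum_sigma, Fintype.card_prod, Fintype.card_fin, Fintype.card_fin]
      simp only [Finset.sum_const, Finset.card_fin, smul_eq_mul]
      have e : ∑ ρ, (d ρ * N + s + 1) * d ρ ^ i = N * ∑ ρ, d ρ ^ (i + 1) + N := by
        rw [Finset.mul_sum, ← Finset.sum_add_distrib]
        exact Finset.sum_congr rfl fun ρ _ => by ring
      rw [e]
      have := Nat.mul_le_mul_left N hlt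
      rw [Nat.mul_succ] at this
      rw [Nat.mul_comm n]
      have hn : 0 < n := by omega
      have : N * n < (N + 1) * n := Nat.mul_lt_mul_of_pos_right (Nat.lt_succ_self N) hn
      omega)
  let x : Fin n → Polynomial K := fun v => ∑ j : Fin (N + 1), Polynomial.X ^ (j : ℕ) * algebraMap K (Polynomial K) (y (v, j))
  have hxcoeff : ∀ v (j : Fin (N + 1)), (x v).coeff j = y (v, j) := by
    intro v j
    simp only [x, Polynomial.finset_sum_coeff, Polynomial.algebraMap_eq, Polynomial.coeff_mul_C, Polynomial.coeff_X_pow]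
    rw [Finset.sum_eq_single j (fun k _ hk => by rw [if_neg (fun h => hk (Fin.ext h).symm), zero_mul])
      (fun h => absurd (Finset.mem_univ j) h), if_pos rfl, one_mul]
  have hxdeg : ∀ v, (x v).natDegree ≤ N := fun v =>
    Polynomial.natDegree_sum_le_of_forall_le _ _ fun j _ => by
      refine Polynomial.natDegree_mul_le.trans ?_
      rw [Polynomial.natDegree_X_pow, Polynomial.algebraMap_eq, Polynomial.natDegree_C, Nat.add_zero]
      exact Nat.le_of_lt_succ j.isLt
  have hzero : ∀ ρ, eval x (F ρ) = 0 := by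
    intro ρ
    apply Polynomial.ext
    intro l
    rw [Polynomial.coeff_zero]
    by_cases hl : l < d ρ * N + s + 1
    · have := hy' ⟨ρ, ⟨l, hl⟩⟩
      simp only [g, eval_coeffMap, eval_genSubst, Polynomial.lcoeff_apply] at this
      exact this
    · refine Polynomial.coeff_eq_zero_of_natDegree_lt ?_
      have := natDegree_eval_le (hFhom ρ) (hs ρ) x hxdeg
      omega
  refine ⟨fun v => algebraMap (Polynomial K) (RatFunc K) (x v), fun h0 => hy (funext fun q => ?_), fun ρ => ?_⟩
  · have h1 : x q.1 = 0 := IsFractionRing.injective (Polynomial K) (RatFunc K) (by simpa using congrFun h0 q.1)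
    simpa [h1] using (hxcoeff q.1 q.2).symm
  · have h1 : eval (fun v => algebraMap (Polynomial K) (RatFunc K) (x v))
        (map (algebraMap (Polynomial K) (RatFunc K)) (F ρ)) = 0 := by
      rw [eval_map]
      have := congrArg (algebraMap (Polynomial K) (RatFunc K)) (hzero ρ)
      rw [map_zero, ← eval₂_id, eval₂_comp_left (algebraMap (Polynomial K) (RatFunc K)), RingHom.comp_id] at this
      exact this
    rw [hFmap, eval_mul, eval_C, mul_eq_zero] at h1
    refine h1.resolve_left fun h2 => nonZeroDivisors.ne_zero b.2 ?_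
    exact IsFractionRing.injective (Polynomial K) (RatFunc K) (by rw [h2, map_zero])

/-- Adjoining one element raises the index by at most one. -/
theorem isCi_adjoin_simple {E : Type*} [Field E] {L : Type*} [Field L] [Algebra E L] (a : L) {i : ℕ}
    (h : Curves.IsCi E i) : Curves.IsCi (IntermediateField.adjoin E ({a} : Set L)) (i + 1) := by
  by_cases ha : IsAlgebraic E a
  · haveI : FiniteDimensional E (IntermediateField.adjoin E ({a} : Set L)) :=
      IntermediateField.adjoin.finiteDimensional ha.isIntegral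
    exact isCi_mono (Nat.le_succ i) (isCi_of_finite h)
  · exact isCi_of_ringEquiv (RatFunc.algEquivOfTranscendental a ha).toRingEquiv (isCi_succ_ratFunc h)

theorem isCi_adjoin {k : Type*} [Field k] {K : Type*} [Field K] [Algebra k K] {i : ℕ}
    (h : Curves.IsCi k i) (s : Finset K) :
    Curves.IsCi (IntermediateField.adjoin k (s : Set K)) (i + s.card) := by
  classical
  induction s using Finset.induction_on with
  | empty =>
    rw [Finset.coe_empty, IntermediateField.adjoin_empty, Finset.card_empty, Nat.add_zero]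
    exact isCi_of_ringEquiv (IntermediateField.botEquiv k K).symm.toRingEquiv h
  | insert a s ha ih =>
    rw [Finset.coe_insert, Finset.card_insert_of_notMem ha, ← Nat.add_assoc]
    have := isCi_adjoin_simple a ih
    have he : (IntermediateField.adjoin (IntermediateField.adjoin k (s : Set K)) ({a} : Set K)).restrictScalars k =
        IntermediateField.adjoin k (insert a (s : Set K)) := by
      rw [IntermediateField.adjoin_adjoin_left, Set.union_singleton]
    rw [← he]
    exact this

theorem isCi_of_isTranscendenceBasis {k : Type*} [Field k] {K : Type*} [Field K] [Algebra k K]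
    {m t : ℕ} (x : Fin t → K) (hx : IsTranscendenceBasis k x) (hk : Curves.IsCi k m) :
    Curves.IsCi K (m + t) := by
  classical
  have h := isCi_adjoin hk (Finset.univ.image x)
  rw [Finset.coe_image, Finset.coe_univ, Set.image_univ,
    Finset.card_image_of_injective _ hx.1.injective, Finset.card_fin] at h
  haveI := hx.isAlgebraic_field
  exact isCi_of_isAlgebraic h

theorem tsen_lang {k : Type u} [Field k] [IsAlgClosed k] {K : Type u} [Field K] [Algebra k K]
    {j : ℕ} (hj : Algebra.trdeg k K = j) : Curves.IsCi K j := by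
  obtain ⟨s, hs⟩ := exists_isTranscendenceBasis k K
  have hc := hs.cardinalMk_eq_trdeg
  rw [hj] at hc
  obtain ⟨e⟩ : Nonempty (Fin j ≃ s) := Cardinal.eq.1 (by simp [hc]) |>.map fun e => (Equiv.ulift.symm.trans e)
  have hb : IsTranscendenceBasis k (fun q : Fin j => (e q : K)) := hs.comp_equiv e
  simpa using isCi_of_isTranscendenceBasis (fun q : Fin j => (e q : K)) hb (isCi_zero (k := k))

theorem isCr_one_of_isCi {K : Type*} [Field K] (h : Curves.IsCi K 1) : Curves.IsCr K 1 := by
  intro n d f hf hd hlt
  obtain ⟨a, ha, ha'⟩ := h 1 n (fun _ => f) (fun _ => d) (fun _ => hf) (fun _ => hd) (by simpa using hlt)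
  exact ⟨a, ha, ha' 0⟩

end Groth.Agent.TsenLib
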