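import Groth.Agent.TsenLib.Basic
import Groth.Agent.CSAStruct.Splitting
import Mathlib.RingTheory.Norm.Defs
import Mathlib.RingTheory.Norm.Basic
import Mathlib.FieldTheory.Galois.Basic
import Mathlib.LinearAlgebra.Matrix.NonsingularInverse

/-! Norm forms and reduced norms: `C_1` ascends to finite extensions and kills Brauer groups. -/

universe u v

namespace Groth.Agent.TsenLib

open MvPolynomial
open scoped TensorProduct

theorem isHomogeneous_det {R : Type*} [CommRing R] {σ : Type*} {e : ℕ} {d : ℕ}
    (M : Matrix (Fin e) (Fin e) (MvPolynomial σ R)) (h : ∀ a b, (M a b).IsHomogeneous d) :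
    M.det.IsHomogeneous (e * d) := by
  rw [Matrix.det_apply]
  refine IsHomogeneous.sum _ _ _ fun p _ => ?_
  have hp := IsHomogeneous.prod Finset.univ (fun a => M (p a) a) (fun _ => d) (fun a _ => h _ _)
  simp only [Finset.sum_const, Finset.card_fin, smul_eq_mul] at hp
  rcases Int.units_eq_one_or (Equiv.Perm.sign p) with h1 | h1 <;> rw [h1]
  · simpa using hp
  · simpa using hp.neg

theorem isCr_one_of_finite {K : Type*} [Field K] {L : Type*} [Field L] [Algebra K L]
    [FiniteDimensional K L] (h : Curves.IsCr K 1) : Curves.IsCr L 1 := by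
  classical
  intro n d f hf hd hlt
  let b := Module.finBasis K L
  let e := Module.finrank K L
  let φ : Fin e → Fin e → (L →ₗ[K] K) := fun a c => (b.coord a).comp (LinearMap.mulRight K (b c))
  let M : Matrix (Fin e) (Fin e) (MvPolynomial (Fin n × Fin e) K) :=
    Matrix.of fun a c => coeffMap (φ a c) (genSubst (fun j => b j) f)
  have hpos : 0 < e := Module.finrank_pos
  have hMhom : ∀ a c, (M a c).IsHomogeneous d := fun a c =>
    coeffMap_isHomogeneous _ (genSubst_isHomogeneous _ hf)
  obtain ⟨y, hy, hy'⟩ := h (n * e) (e * d) (rename finProdFinEquiv M.det)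
    (isHomogeneous_det M hMhom).rename_isHomogeneous (Nat.mul_pos hpos hd)
    (by
      rw [pow_one] at hlt ⊢
      rw [Nat.mul_comm n]
      exact Nat.mul_lt_mul_of_pos_left hlt hpos)
  rw [eval_rename] at hy'
  let z : Fin n × Fin e → K := y ∘ finProdFinEquiv
  refine ⟨fun v => ∑ j, z (v, j) • b j, fun h0 => hy (funext fun q => ?_), ?_⟩
  · have := Fintype.linearIndependent_iff.1 b.linearIndependent _ (congrFun h0 (finProdFinEquiv.symm q).1) (finProdFinEquiv.symm q).2
    simp only [z, Function.comp_apply, Prod.mk.eta, Equiv.apply_symm_apply] at this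
    exact this
  · set value := eval (fun v => ∑ j, z (v, j) • b j) f with hval
    have hM : M.map (eval z) = Algebra.leftMulMatrix b value := by
      ext a c
      simp only [Matrix.map_apply, M, Matrix.of_apply, eval_coeffMap, eval_genSubst,
        Algebra.leftMulMatrix_eq_repr_mul, φ, LinearMap.comp_apply, LinearMap.mulRight_apply,
        Module.Basis.coord_apply]
      rw [hval]
      simp [Algebra.smul_def, mul_comm]
    have h2 : (M.map (eval z)).det = 0 := by
      rw [← RingHom.mapMatrix_apply, ← RingHom.map_det]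
      exact hy'
    rw [hM, ← Algebra.norm_eq_matrix_det] at h2
    exact Algebra.norm_eq_zero_iff.1 h2

theorem finrank_eq_one_of_isCr_one {K : Type u} [Field K] (hK : Curves.IsCr K 1)
    {D : Type v} [DivisionRing D] [Algebra K D] [Algebra.IsCentral K D] [FiniteDimensional K D] :
    Module.finrank K D = 1 := by
  classical
  obtain ⟨L, _, _, hLfd, hLgal, hs⟩ := CSAStruct.exists_galois_splitting K D
  obtain ⟨d, hd0, hdim, ⟨g⟩⟩ := (CSAStruct.splits_iff_exists_hom K D L).1 hs
  haveI : NeZero d := ⟨hd0⟩
  by_contra hne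
  have hd1 : 1 < d := by
    rcases Nat.lt_or_ge 1 d with h | h
    · exact h
    · exfalso; apply hne; rw [hdim, show d = 1 by omega]
  let b := Module.finBasis K D
  let M : Matrix (Fin d) (Fin d) (MvPolynomial (Fin (Module.finrank K D)) L) :=
    ∑ j, (X j : MvPolynomial (Fin (Module.finrank K D)) L) • (g (b j)).map C
  have hMapply : ∀ a c, M a c = ∑ j, C (g (b j) a c) * X j := fun a c => by
    simp only [M, Matrix.sum_apply, Matrix.smul_apply, Matrix.map_apply, smul_eq_mul]
    exact Finset.sum_congr rfl fun j _ => mul_comm _ _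
  let P := M.det
  have hPhom : P.IsHomogeneous (d * 1) := isHomogeneous_det M fun a c => by
    rw [hMapply]
    exact IsHomogeneous.sum _ _ _ fun j _ => isHomogeneous_C_mul_X _ j
  rw [Nat.mul_one] at hPhom
  have hfix : ∀ σ : Gal(L/K), map (σ : L →+* L) P = P := by
    intro σ
    haveI := CSAStruct.isSimpleRing_baseChange K D L
    let g' : D →ₐ[K] Matrix (Fin d) (Fin d) L := (σ : L →ₐ[K] L).mapMatrix.comp g
    let F : L ⊗[K] D →ₐ[L] Matrix (Fin d) (Fin d) L :=
      Algebra.TensorProduct.lift (Algebra.ofId L _) g (fun l a => Algebra.commutes l _)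
    let F' : L ⊗[K] D →ₐ[L] Matrix (Fin d) (Fin d) L :=
      Algebra.TensorProduct.lift (Algebra.ofId L _) g' (fun l a => Algebra.commutes l _)
    obtain ⟨x, hx⟩ := CSAStruct.skolemNoether L F' F
    have hconj : ∀ a : D, g' a = (x : Matrix (Fin d) (Fin d) L) * g a * (x⁻¹ : _ˣ) := fun a => by
      have h : Algebra.ofId L (Matrix (Fin d) (Fin d) L) 1 * g' a =
          (x : Matrix (Fin d) (Fin d) L) * (Algebra.ofId L (Matrix (Fin d) (Fin d) L) 1 * g a) *
            (x⁻¹ : (Matrix (Fin d) (Fin d) L)ˣ) := hx (1 ⊗ₜ a)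
      rwa [map_one, one_mul, one_mul] at h
    let Cm : Matrix (Fin d) (Fin d) L →+* Matrix (Fin d) (Fin d) (MvPolynomial (Fin (Module.finrank K D)) L) :=
      (C : L →+* MvPolynomial (Fin (Module.finrank K D)) L).mapMatrix
    have hMσ : M.map (map (σ : L →+* L)) = Cm x * M * Cm (x⁻¹ : _ˣ) := by
      have h1 : M.map (map (σ : L →+* L)) =
          ∑ j, (X j : MvPolynomial (Fin (Module.finrank K D)) L) • Cm (g' (b j)) := by
        refine Matrix.ext fun a c => ?_
        simp only [Cm, g', RingHom.mapMatrix_apply, AlgHom.comp_apply, AlgHom.mapMatrix_apply,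
          Matrix.map_apply, Matrix.sum_apply, Matrix.smul_apply, smul_eq_mul, hMapply, map_sum,
          map_mul, map_C, map_X]
        exact Finset.sum_congr rfl fun j _ => mul_comm _ _
      rw [h1]
      change _ = Cm x * (∑ j, _ • Cm (g (b j))) * Cm (x⁻¹ : _ˣ)
      rw [Finset.mul_sum, Finset.sum_mul]
      refine Finset.sum_congr rfl fun j _ => ?_
      rw [hconj, map_mul, map_mul, mul_smul_comm, smul_mul_assoc]
    change map (σ : L →+* L) M.det = M.det
    rw [RingHom.map_det, RingHom.mapMatrix_apply, hMσ, Matrix.det_mul, Matrix.det_mul,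
      mul_right_comm, ← Matrix.det_mul, ← map_mul, Units.mul_inv, map_one, Matrix.det_one, one_mul]
  obtain ⟨Q, hQ⟩ : ∃ Q, map (algebraMap K L) Q = P := MvPolynomial.mem_range_map_iff_coeffs_subset.2 (fun c hc => by
    obtain ⟨m, hm, rfl⟩ := MvPolynomial.mem_coeffs_iff.1 hc
    refine (IsGalois.mem_range_algebraMap_iff_fixed _).2 fun σ => ?_
    have := congrArg (MvPolynomial.coeff m) (hfix σ)
    rwa [coeff_map] at this)
  obtain ⟨a, ha, ha'⟩ := hK (Module.finrank K D) d Q
    (IsHomogeneous.of_map (algebraMap K L).injective (hQ.symm ▸ hPhom)) (by omega)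
    (by rw [pow_one, hdim]; exact (Nat.lt_mul_iff_one_lt_left (by omega)).2 hd1)
  have hPa : eval (fun j => algebraMap K L (a j)) P = 0 := by
    have h := congrArg (algebraMap K L) ha'
    rw [map_zero, ← eval₂_id, eval₂_comp_left (algebraMap K L), RingHom.comp_id] at h
    rw [← hQ, eval_map]
    exact h
  set z : D := ∑ j, a j • b j with hz
  have hz0 : z ≠ 0 := fun h0 => ha (funext fun j =>
    Fintype.linearIndependent_iff.1 b.linearIndependent _ h0 j)
  have hdet : (g z).det = 0 := by
    rw [← hPa]
    change _ = eval _ M.det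
    rw [RingHom.map_det, RingHom.mapMatrix_apply]
    congr 1
    ext r c
    simp only [Matrix.map_apply, hMapply, hz, map_sum, map_smul, Matrix.sum_apply, Matrix.smul_apply,
      map_mul, eval_C, eval_X]
    exact Finset.sum_congr rfl fun j _ => by rw [Algebra.smul_def, mul_comm]
  exact (Matrix.isUnit_iff_isUnit_det _).1 ((IsUnit.mk0 z hz0).map g) |>.ne_zero hdet

end Groth.Agent.TsenLib
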